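import Mathlib

/-!
Strongly regular graphs without triangles: unless the two multiplicities agree, the discriminant is a square;
the solutions with both parameters powers of three.
-/

namespace Cfsg.Lib.ThreeTr.CoreThree

open Matrix

/-- The trace of an idempotent real matrix is a natural number. -/
theorem trace_idempotent_nat {α : Type*} [Fintype α] [DecidableEq α] {P : Matrix α α ℝ} (h : P * P = P) :
    ∃ n : ℕ, P.trace = n := by
  have he : IsIdempotentElem (Matrix.toLin' P) := by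
    unfold IsIdempotentElem
    rw [Module.End.mul_eq_comp, ← Matrix.toLin'_mul, h]
  refine ⟨Module.finrank ℝ (LinearMap.range (Matrix.toLin' P)), ?_⟩
  rw [← Matrix.trace_toLin'_eq]
  exact LinearMap.IsProj.trace ((LinearMap.isProj_range_iff_isIdempotentElem _).2 he)

/-- A graph without triangles in which two vertices at distance two have `μ` common neighbours. -/
theorem square_of_triangle_free {α : Type*} [Fintype α] [Nonempty α] (adj : α → α → Prop)
    (hsymm : ∀ i j, adj i j → adj j i) (hirr : ∀ i, ¬ adj i i) (k μ : ℕ)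
    (hk : ∀ i, {j | adj i j}.ncard = k)
    (h0 : ∀ i j, adj i j → ∀ l, adj i l → ¬ adj l j)
    (hμ : ∀ i j, i ≠ j → ¬ adj i j → {l | adj i l ∧ adj l j}.ncard = μ)
    (hμk : μ ≤ k) (hμ1 : 1 ≤ μ) (hk2 : 3 ≤ k) : IsSquare (μ ^ 2 + 4 * (k - μ)) := by
  classical
  set A : Matrix α α ℝ := Matrix.of fun i j => if adj i j then 1 else 0 with hA
  set J : Matrix α α ℝ := Matrix.of fun _ _ => 1 with hJ
  have hrow : ∀ i, ∑ j, (if adj i j then (1 : ℝ) else 0) = k := by
    intro i
    rw [Finset.sum_boole, ← hk i, Set.ncard_eq_toFinset_card', Set.toFinset_ofPred]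
  have hcol : ∀ j, ∑ i, (if adj i j then (1 : ℝ) else 0) = k := by
    intro j
    rw [← hrow j]
    exact Finset.sum_congr rfl fun i _ => if_congr ⟨hsymm i j, hsymm j i⟩ rfl rfl
  have hAJ : A * J = (k : ℝ) • J := by
    ext i j
    simp only [hA, hJ, Matrix.mul_apply, Matrix.of_apply, mul_one, Matrix.smul_apply, smul_eq_mul]
    exact hrow i
  have hJA : J * A = (k : ℝ) • J := by
    ext i j
    simp only [hA, hJ, Matrix.mul_apply, Matrix.of_apply, one_mul, Matrix.smul_apply, smul_eq_mul, mul_one]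
    exact hcol j
  have hAA : A * A = (k : ℝ) • 1 + (μ : ℝ) • (J - 1 - A) := by
    ext i j
    have e : (A * A) i j = ({l | adj i l ∧ adj l j}.ncard : ℝ) := by
      simp only [hA, Matrix.mul_apply, Matrix.of_apply, mul_boole, ← ite_and]
      rw [Finset.sum_boole, Set.ncard_eq_toFinset_card', Set.toFinset_ofPred]
      congr 2
      exact Finset.filter_congr fun l _ => and_comm
    rw [e]
    simp only [hA, hJ, Matrix.add_apply, Matrix.sub_apply, Matrix.smul_apply, Matrix.of_apply, Matrix.one_apply,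
      smul_eq_mul]
    by_cases hij : i = j
    · subst hij
      rw [if_pos rfl, if_neg (hirr i)]
      have : {l | adj i l ∧ adj l i} = {l | adj i l} := Set.ext fun l => ⟨fun h => h.1, fun h => ⟨h, hsymm i l h⟩⟩
      rw [this, hk i]; ring
    · rw [if_neg hij]
      by_cases ha : adj i j
      · rw [if_pos ha, show {l | adj i l ∧ adj l j} = ∅ from Set.eq_empty_iff_forall_notMem.2
          fun l hl => h0 i j ha l hl.1 hl.2, Set.ncard_empty]
        push_cast; ring
      · rw [if_neg ha, hμ i j hij ha]; ring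
  set v : ℝ := (Fintype.card α : ℝ) with hv
  have hv0 : v ≠ 0 := by positivity
  have hJJ : J * J = v • J := by
    ext i j
    simp [hJ, hv, Matrix.mul_apply]
  -- counting the paths of length two from one vertex
  have hrel : (k : ℝ) * k = k + μ * (v - 1 - k) := by
    obtain ⟨i⟩ := ‹Nonempty α›
    have h1 := congrArg (fun M : Matrix α α ℝ => (M * J) i i) hAA
    simp only [Matrix.mul_assoc, hAJ, Matrix.mul_smul, Matrix.add_mul, Matrix.smul_mul, Matrix.sub_mul,
      Matrix.one_mul, hJJ, Matrix.add_apply, Matrix.sub_apply, Matrix.smul_apply, smul_eq_mul] at h1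
    simp only [hJ, Matrix.of_apply, mul_one] at h1
    linarith
  set d : ℕ := μ ^ 2 + 4 * (k - μ) with hd
  have hdR : (d : ℝ) = (μ : ℝ) ^ 2 + 4 * (k - μ) := by rw [hd]; push_cast [Nat.cast_sub hμk]; ring
  have hd0 : (0 : ℝ) < d := by
    rw [hd]; exact_mod_cast Nat.lt_of_lt_of_le (Nat.pow_pos (n := 2) hμ1) (Nat.le_add_right _ _)
  set r : ℝ := Real.sqrt d with hr
  have hr0 : r ≠ 0 := (Real.sqrt_pos.2 hd0).ne'
  have hrr : r * r = d := Real.mul_self_sqrt hd0.le
  set c : ℝ := 2 * k + μ with hc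
  set E : Matrix α α ℝ := 1 - v⁻¹ • J with hE
  set M : Matrix α α ℝ := (2 : ℝ) • A + (μ : ℝ) • 1 - (c / v) • J with hM
  have hMJ : M * J = 0 := by
    simp only [hM, Matrix.sub_mul, Matrix.add_mul, Matrix.smul_mul, Matrix.one_mul, hAJ, hJJ, smul_smul,
      ← sub_smul, ← add_smul]
    rw [div_mul_cancel₀ _ hv0, hc, sub_self, zero_smul]
  have hJM : J * M = 0 := by
    simp only [hM, Matrix.mul_sub, Matrix.mul_add, Matrix.mul_smul, Matrix.mul_one, hJA, hJJ, smul_smul,
      ← sub_smul, ← add_smul]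
    rw [div_mul_cancel₀ _ hv0, hc, sub_self, zero_smul]
  have hEE : E * E = E := by
    simp only [hE, Matrix.sub_mul, Matrix.mul_sub, Matrix.one_mul, Matrix.mul_one, Matrix.smul_mul, Matrix.mul_smul,
      hJJ, smul_smul]
    rw [inv_mul_cancel₀ hv0, one_smul, sub_self, smul_zero, sub_zero]
  have hME : M * E = M := by simp [hE, Matrix.mul_sub, hMJ]
  have hEM : E * M = M := by simp [hE, Matrix.sub_mul, hJM]
  have hMM : M * M = (d : ℝ) • E := by
    have e1 : M * M = (4 : ℝ) • (A * A) + (4 * μ : ℝ) • A + ((μ : ℝ) ^ 2) • (1 : Matrix α α ℝ) - (c / v * c) • J := by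
      have : M * M = M * ((2 : ℝ) • A + (μ : ℝ) • 1) := by
        conv_lhs => arg 2; rw [hM]
        rw [Matrix.mul_sub, Matrix.mul_smul _ (c / v) J, hMJ, smul_zero, sub_zero]
      rw [this, hM]
      simp only [Matrix.sub_mul, Matrix.add_mul, Matrix.mul_add, Matrix.smul_mul, Matrix.mul_smul, Matrix.one_mul,
        Matrix.mul_one, hJA, smul_smul]
      rw [hc]; module
    rw [e1, hAA, hE]
    have key : 4 * (μ : ℝ) - c / v * c = -((d : ℝ) * v⁻¹) := by
      rw [hc, hdR]; field_simp; linear_combination -4 * hrel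
    match_scalars
    · linear_combination (norm := ring_nf) -hdR
    · linarith
    · ring
  clear_value E M
  set P : Matrix α α ℝ := (1 / 2 : ℝ) • (E + r⁻¹ • M) with hP
  have hPP : P * P = P := by
    simp only [hP, Matrix.smul_mul, Matrix.mul_smul, Matrix.add_mul, Matrix.mul_add, hEE, hME, hEM, hMM, smul_smul]
    have hinv : r⁻¹ * r⁻¹ * (d : ℝ) = 1 := by rw [← hrr]; field_simp
    match_scalars
    · linear_combination (1 / 4 : ℝ) * hinv
    · ring
  obtain ⟨n, hn⟩ := trace_idempotent_nat hPP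
  have htJ : J.trace = v := by simp [hJ, hv, Matrix.trace]
  have htA : A.trace = 0 := by simp [hA, Matrix.trace, hirr]
  have htE : E.trace = v - 1 := by
    rw [hE, Matrix.trace_sub, Matrix.trace_one, Matrix.trace_smul, htJ, smul_eq_mul, inv_mul_cancel₀ hv0]
  have htM : M.trace = μ * v - c := by
    rw [hM, Matrix.trace_sub, Matrix.trace_add, Matrix.trace_smul, Matrix.trace_smul, Matrix.trace_smul,
      Matrix.trace_one, htJ, htA, ← hv, smul_eq_mul, smul_eq_mul, smul_eq_mul, div_mul_cancel₀ _ hv0]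
    ring
  set N : ℤ := (k : ℤ) * μ + k * (k - 1) - 2 * k with hN
  have hNM : (N : ℝ) = M.trace := by rw [htM, hN, hc]; push_cast; linear_combination hrel
  simp only [hP, Matrix.trace_smul, Matrix.trace_add, htE, smul_eq_mul, ← hNM] at hn
  set z : ℤ := 2 * n - ((Fintype.card α : ℤ) - 1) with hz
  have hNz : (N : ℝ) = r * z := by
    rw [hz]; push_cast; rw [← hv]
    field_simp at hn
    linear_combination hn
  have hsq : N * N = (d : ℤ) * (z * z) := by
    have : (N : ℝ) * N = d * ((z : ℝ) * z) := by rw [hNz, ← hrr]; ring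
    exact_mod_cast this
  have hNpos : 0 < N := by
    have h1 : (3 : ℤ) ≤ k := by exact_mod_cast hk2
    have h2 : (1 : ℤ) ≤ μ := by exact_mod_cast hμ1
    rw [hN]; nlinarith
  have hz0 : z ≠ 0 := fun h => by rw [h, mul_zero, mul_zero] at hsq; nlinarith
  have hdvd : z ∣ N := (Int.pow_dvd_pow_iff (n := 2) (by norm_num)).1 ⟨d, by rw [sq, sq, hsq]; ring⟩
  obtain ⟨q, hq⟩ := hdvd
  have hqd : q * q = (d : ℤ) := by
    apply mul_left_cancel₀ (mul_ne_zero hz0 hz0)
    rw [hq] at hsq; linear_combination hsq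
  refine ⟨q.natAbs, ?_⟩
  rw [← Int.natAbs_mul, hqd, Int.natAbs_natCast]

/-- A square of the shape `3 ^ j * r` with `r` congruent to two modulo three does not exist. -/
theorem not_isSquare_three_pow : ∀ (j r : ℕ), r % 3 = 2 → ¬ IsSquare (3 ^ j * r)
  | 0, r, hr, ⟨s, hs⟩ => by
    rw [pow_zero, one_mul] at hs
    have : s % 3 = 0 ∨ s % 3 = 1 ∨ s % 3 = 2 := by omega
    rw [hs, Nat.mul_mod] at hr
    rcases this with h | h | h <;> simp [h] at hr
  | 1, r, hr, ⟨s, hs⟩ => by
    rw [pow_one] at hs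
    obtain ⟨t, rfl⟩ : 3 ∣ s := by
      rcases (Nat.Prime.dvd_mul Nat.prime_three).1 ⟨r, hs.symm⟩ with h | h <;> exact h
    have : r = 3 * (t * t) := by linarith
    omega
  | j + 2, r, hr, ⟨s, hs⟩ => by
    obtain ⟨t, rfl⟩ : 3 ∣ s := by
      rcases (Nat.Prime.dvd_mul Nat.prime_three).1 ⟨3 ^ (j + 1) * r, by rw [← hs]; ring⟩ with h | h <;> exact h
    refine not_isSquare_three_pow j r hr ⟨t, ?_⟩
    rw [pow_add] at hs
    norm_num at hs
    linarith

/-- Both parameters powers of three. -/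
theorem parameters {j m : ℕ} (hjm : j ≤ m) (hm : 1 ≤ m)
    (h : IsSquare ((3 ^ j) ^ 2 + 4 * (3 ^ m - 3 ^ j))) : j = m ∨ (j = 0 ∧ m = 1) := by
  rcases Nat.eq_zero_or_pos j with rfl | hj
  · rcases Nat.lt_or_ge m 2 with h2 | h2
    · exact Or.inr ⟨rfl, by omega⟩
    exfalso
    obtain ⟨n, rfl⟩ := Nat.exists_eq_add_of_le h2
    obtain ⟨s, hs⟩ := h
    rw [pow_zero, pow_add] at hs
    norm_num at hs
    have h9 : (1 + 4 * (9 * 3 ^ n - 1)) % 9 = 6 := by
      have : 0 < 3 ^ n := Nat.pow_pos (by norm_num)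
      omega
    rw [hs, Nat.mul_mod] at h9
    have := Nat.mod_lt s (show 0 < 9 by norm_num)
    interval_cases hs9 : s % 9 <;> simp at h9
  · rcases Nat.lt_or_ge j m with hlt | hge
    · exfalso
      obtain ⟨n, rfl⟩ := Nat.exists_eq_add_of_le hlt
      have hp : 1 ≤ 3 ^ (1 + n) := Nat.one_le_pow _ _ (by norm_num)
      refine not_isSquare_three_pow j (3 ^ j + 4 * (3 ^ (1 + n) - 1)) ?_ ?_
      · obtain ⟨i, rfl⟩ := Nat.exists_eq_add_of_le hj
        have h1 : 0 < 3 ^ n := Nat.pow_pos (by norm_num)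
        rw [pow_add, pow_add 3 1 n, pow_one]
        omega
      · convert h using 2
        rw [show 3 ^ (j + 1 + n) = 3 ^ j * 3 ^ (1 + n) by rw [← pow_add, add_assoc]]
        conv_rhs => rw [sq, show 3 ^ j * 3 ^ (1 + n) - 3 ^ j = 3 ^ j * (3 ^ (1 + n) - 1) by rw [Nat.mul_sub, mul_one]]
        ring
    · exact Or.inl (le_antisymm hjm hge)

end Cfsg.Lib.ThreeTr.CoreThree
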