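import Cfsg.Agent.ThreeTransposition.CoreThree.Triangles
import Cfsg.Agent.ThreeTransposition.CoreThree.Srg
import Cfsg.Agent.ThreeTransposition.Base.Petersen
import Cfsg.Agent.Coprime.Fitting
import Cfsg.Agent.OddChar.PF.OddOrder
import Cfsg.Prelude.Def_CaseTheorems

/-!
Fischer: if the odd core of the subgroup generated by the neighbours of a member is not central, the group is
the symmetric group of degree five.
-/

set_option linter.unusedSectionVars false
set_option linter.style.haveILetI false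

namespace Cfsg.Lib.ThreeTr.CoreThree

open Cfsg Subgroup Cfsg.Lib.ThreeTr

universe u

variable {G : Type u} [Group G] {D : Set G}

/-- The neighbours of `x` inside the subgroup they generate. -/
def perpIn (D : Set G) (x : G) : Set (closure (perp D x)) := {h | (h : G) ∈ perp D x}

theorem perp_class [Finite G] (hR : Rich D) {x : G} (hx : x ∈ D) : IsThreeTranspositionClass (perpIn D x) := by
  have hD := hR.cls
  obtain ⟨a, ha⟩ := hR.exists_perp hx
  refine ⟨⟨fun h hh => ?_, fun h hh k hk => ?_⟩, ⟨⟨a, subset_closure ha⟩, ha, ?_⟩, closure_closure_coe_preimage⟩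
  · rw [← orderOf_coe]; exact hD.1.1 _ hh.1
  · rcases hD.1.2 _ hh.1 _ hk.1 with h2 | h3
    · exact Or.inl (Subtype.ext h2)
    · exact Or.inr (Subtype.ext h3)
  · ext h
    rw [mem_conjugatesOf', isConj_iff]
    constructor
    · intro hh
      obtain ⟨g, hg, hga⟩ := hR.perp_transitive hx ha hh
      exact ⟨⟨g, hg⟩, Subtype.ext hga⟩
    · rintro ⟨g, rfl⟩
      have := (mem_perp_conj hD (g : G) (x := x) (y := a)).2 ha
      rwa [conj_fix (closure_perp_commute g.2)] at this

/-- The odd core is central when the cores of the odd primes are. -/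
theorem oddCore_le_center {H : Type u} [Group H] [Finite H]
    (h : ∀ p : ℕ, p.Prime → 2 < p → pCore p H ≤ center H) : oddCore H ≤ center H := by
  set O := oddCore H with hO
  have hcop : (Nat.card O).Coprime 2 := Cfsg.Lib.Components.coprime_card_pPrimeCore 2
  have hodd : Odd (Nat.card O) := Nat.coprime_two_right.1 hcop
  haveI : Group.IsSolvable O := Cfsg.Agent.PF.isSolvable_of_odd O hodd
  have hF : fittingSubgroup O ≤ (center H).comap O.subtype := by
    rw [Cfsg.Lib.Components.fitting_eq_iSup_pCore]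
    refine iSup_le fun p => ?_
    haveI := Fact.mk p.2
    rw [← map_le_iff_le_comap]
    rcases eq_or_ne p.1 2 with h2 | h2
    · have : pCore p.1 O = ⊥ := by
        obtain ⟨n, hn⟩ := (Cfsg.Lib.Components.isPGroup_pCore (G := O) p.1).exists_card_eq
        rcases Nat.eq_zero_or_pos n with rfl | hn0
        · exact eq_bot_of_card_eq _ (by rw [hn, pow_zero])
        · exfalso
          have hd : 2 ∣ Nat.card O :=
            (dvd_pow_self 2 hn0.ne').trans (by rw [← h2, ← hn]; exact Subgroup.card_subgroup_dvd_card _)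
          exact (Nat.not_even_iff_odd.2 hodd) (even_iff_two_dvd.2 hd)
      rw [this, Subgroup.map_bot]; exact bot_le
    · haveI : (pCore p.1 O).Characteristic := inferInstance
      haveI : ((pCore p.1 O).map O.subtype).Normal := inferInstance
      refine (Cfsg.Lib.Components.le_pCore ((Cfsg.Lib.Components.isPGroup_pCore (G := O) p.1).map _)).trans
        (h p.1 p.2 (lt_of_le_of_ne p.2.two_le (Ne.symm h2)))
  intro o ho
  have hmem : (⟨o, ho⟩ : O) ∈ fittingSubgroup O := Cfsg.Lib.Coprime.centralizer_fitting_le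
    (mem_centralizer_iff.2 fun f hf => Subtype.ext (mem_center_iff.1 (hF hf) o).symm)
  exact hF hmem

/-- A nontrivial class among the neighbours. -/
theorem exists_wclass [Finite G] (hR : Rich D) {x : G} (hx : x ∈ D)
    (h : ¬ oddCore (closure (perp D x)) ≤ center (closure (perp D x))) :
    ∃ x ∈ D, ∃ a ∈ perp D x, ∃ b ∈ wclass D x a, a ≠ b := by
  have hcls := perp_class hR hx
  by_contra hcon
  push Not at hcon
  refine h (oddCore_le_center fun p hp h2 => ?_)
  rcases Nat.lt_or_ge 3 p with h3 | h3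
  · exact pCore_le_center_of_gt hcls hp h3
  obtain rfl : p = 3 := by omega
  haveI := (Cfsg.Lib.Components.pCore_normal_and_isPGroup (G := closure (perp D x)) 3).1
  by_contra hnc
  obtain ⟨a, ha⟩ := hR.exists_perp hx
  obtain ⟨g, hg, hga⟩ := exists_moved hcls hnc (d := ⟨a, subset_closure ha⟩) ha
  have hw := conj_mem hcls g (x := ⟨a, subset_closure ha⟩) ha
  have hW := wRel_of_mem_pCore hcls (d := ⟨a, subset_closure ha⟩) ha hw (moved_diff_mem hg)
  refine hga (Subtype.ext (hcon x hx a ha _ ⟨hw, fun y hy => ?_⟩).symm)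
  have := hW ⟨y, subset_closure hy⟩ hy
  simp only [Ne, Subtype.ext_iff, Commute, SemiconjBy, Subgroup.coe_mul] at this ⊢
  exact this

/-- A set of neighbours moved transitively by the products of its pairs has three-power size. -/
theorem ncard_three_pow [Finite G] (hR : Rich D) {x : G} (hx : x ∈ D)
    (hnc : ∀ a ∈ perp D x, ∀ b ∈ perp D x, Commute a b → a = b) {T : Set G} (hT : T ⊆ perp D x) {u₀ : G}
    (hu₀ : u₀ ∈ T) (hstab : ∀ u ∈ T, ∀ v ∈ T, (fun t => (u * v) * t * (u * v)⁻¹) '' T = T) :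
    ∃ n : ℕ, T.ncard = 3 ^ n := by
  have hcls := perp_class hR hx
  haveI : Fact (Nat.Prime 3) := ⟨Nat.prime_three⟩
  have hP := (isPGroup_productSubgroup hcls fun a ha b hb hab =>
    Subtype.ext (hnc _ ha _ hb (hab.map (closure (perp D x)).subtype))).map (closure (perp D x)).subtype
  set Q : Subgroup G := closure {g | ∃ u ∈ T, ∃ v ∈ T, g = u * v} with hQ
  have hQP : IsPGroup 3 Q := hP.to_le (by
    rw [hQ, closure_le]
    rintro g ⟨u, hu, v, hv, rfl⟩
    exact ⟨_, mul_mem_productSubgroup (a := ⟨u, subset_closure (hT hu)⟩) (b := ⟨v, subset_closure (hT hv)⟩)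
      (hT hu) (hT hv), rfl⟩)
  have hst : ∀ g ∈ Q, ∀ t, g * t * g⁻¹ ∈ T ↔ t ∈ T := by
    intro g hg
    induction hg using closure_induction with
    | mem g hg =>
      obtain ⟨u, hu, v, hv, rfl⟩ := hg
      intro t
      conv_lhs => rw [← hstab u hu v hv]
      exact (conj_image_injective (u * v)).mem_set_image
    | one => intro t; simp
    | mul g k _ _ hg hk => intro t; rw [show g * k * t * (g * k)⁻¹ = g * (k * t * k⁻¹) * g⁻¹ by group, hg, hk]
    | inv g _ hg => intro t; rw [← hg, show g * (g⁻¹ * t * g⁻¹⁻¹) * g⁻¹ = t by group]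
  set Q' : Subgroup (ConjAct G) := Q.map ConjAct.toConjAct.toMonoidHom with hQ'
  have horb : MulAction.orbit Q' u₀ = T := by
    ext t
    constructor
    · rintro ⟨⟨_, g, hg, rfl⟩, rfl⟩
      exact (hst g hg u₀).2 hu₀
    · intro ht
      by_cases hc : Commute u₀ t
      · exact hnc _ (hT hu₀) _ (hT ht) hc ▸ MulAction.mem_orbit_self u₀
      exact ⟨⟨_, u₀ * t, subset_closure ⟨u₀, hu₀, t, ht, rfl⟩, rfl⟩,
        mul_conj_eq hR.cls.1 (hT hu₀).1 (hT ht).1 hc⟩
  haveI : Finite (MulAction.orbit Q' u₀) := Set.toFinite _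
  obtain ⟨n, hn⟩ := (hQP.map ConjAct.toConjAct.toMonoidHom).card_orbit (α := G) u₀
  exact ⟨n, by rw [← horb, ← Nat.card_coe_set_eq]; exact hn⟩

/-- Three neighbours generate a symmetric group of degree three. -/
theorem perm_three [Finite G] (hR : Rich D) {x : G} (hx : x ∈ D)
    (hnc : ∀ a ∈ perp D x, ∀ b ∈ perp D x, Commute a b → a = b) (h3 : (perp D x).ncard = 3) :
    Nonempty (closure (perp D x) ≃* Equiv.Perm (Fin 3)) := by
  classical
  have hD := hR.cls
  set H := closure (perp D x) with hH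
  obtain ⟨a, ha⟩ := hR.exists_perp hx
  obtain ⟨b, hb, hba⟩ := Set.exists_ne_of_one_lt_ncard (by omega : 1 < (perp D x).ncard) a
  have hab : ¬ Commute a b := fun h => hba (hnc a ha b hb h).symm
  have a2 := sq_eq_one hD.1 ha.1
  have b2 := sq_eq_one hD.1 hb.1
  set c := a * b * a with hc
  have bc : b * a * b = c := (braid hD.1 ha.1 hb.1 hab).symm
  have hcp : c ∈ perp D x := by
    have := (mem_perp_conj hD a (x := x) (y := b)).2 hb
    rwa [conj_fix ha.2.2.symm, inv_eq hD.1 ha.1] at this
  have hca : c ≠ a := fun h => hba (by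
    have := congrArg (fun t => a * t * a) h
    simpa only [hc, invol_conj_conj a2, a2, one_mul] using this)
  have hcb : c ≠ b := fun h => hab (by
    show a * b = b * a
    calc a * b = a * b * a * a := by rw [mul_assoc (a * b), a2, mul_one]
      _ = b * a := by rw [← hc, h])
  have hperp : perp D x = {a, b, c} := by
    refine (Set.eq_of_subset_of_ncard_le ?_ ?_ (Set.toFinite _)).symm
    · rintro t (rfl | rfl | rfl) <;> assumption
    · rw [h3, Set.ncard_eq_three.2 ⟨a, b, c, hba.symm, hca.symm, hcb.symm, rfl⟩]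
  set L : Set G := {1, a, b, a * b, b * a, c} with hL
  have hLa : ∀ l ∈ L, a * l ∈ L := by
    simp only [hL, Set.mem_insert_iff, Set.mem_singleton_iff]
    rintro l (rfl | rfl | rfl | rfl | rfl | rfl)
    · simp
    · simp [a2]
    · simp
    · simp [← mul_assoc, a2]
    · simp [hc, mul_assoc]
    · simp [hc, ← mul_assoc, a2]
  have hLb : ∀ l ∈ L, b * l ∈ L := by
    simp only [hL, Set.mem_insert_iff, Set.mem_singleton_iff]
    rintro l (rfl | rfl | rfl | rfl | rfl | rfl)
    · simp
    · simp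
    · simp [b2]
    · simp [← bc, mul_assoc]
    · simp [← mul_assoc, b2]
    · simp [← bc, ← mul_assoc, b2]
  have hHab : H = closure {a, b} := by
    refine le_antisymm ?_ (closure_mono ?_)
    · rw [hH, closure_le, hperp]
      rintro t (rfl | rfl | rfl)
      · exact subset_closure (Or.inl rfl)
      · exact subset_closure (Or.inr rfl)
      · exact mul_mem (mul_mem (subset_closure (Or.inl rfl)) (subset_closure (Or.inr rfl))) (subset_closure (Or.inl rfl))
    · rintro t (rfl | rfl) <;> assumption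
  have hHL : ∀ g ∈ H, g ∈ L := by
    intro g hg
    rw [hHab] at hg
    induction hg using closure_induction_left with
    | one => exact Or.inl rfl
    | mul_left s hs g _ ih =>
      rcases hs with rfl | rfl
      · exact hLa g ih
      · exact hLb g ih
    | inv_mul_cancel s hs g _ ih =>
      rcases hs with rfl | rfl
      · rw [inv_eq hD.1 ha.1]; exact hLa g ih
      · rw [inv_eq hD.1 hb.1]; exact hLb g ih
  letI act : MulAction H (perp D x) :=
    { smul := fun g t => ⟨(g : G) * t * (g : G)⁻¹, by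
        have := (mem_perp_conj hD (g : G) (x := x) (y := (t : G))).2 t.2
        rwa [conj_fix (closure_perp_commute g.2)] at this⟩
      one_smul := fun t => Subtype.ext (show (1 : G) * t * (1 : G)⁻¹ = t by group)
      mul_smul := fun g k t => Subtype.ext (show ((g : G) * k) * t * ((g : G) * k)⁻¹ =
        (g : G) * ((k : G) * t * (k : G)⁻¹) * (g : G)⁻¹ by group) }
  have hinj : Function.Injective (MulAction.toPermHom H (perp D x)) := by
    rw [injective_iff_map_eq_one]
    intro g hg
    have hfix : ∀ t ∈ perp D x, Commute (g : G) t := fun t ht => by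
      have := congrArg (fun σ : Equiv.Perm (perp D x) => (σ ⟨t, ht⟩ : G)) hg
      exact mul_inv_eq_iff_eq_mul.1 this
    have hga := hfix a ha
    have hgb := hfix b hb
    rcases hHL g g.2 with h | h | h | h | h | h
    · exact Subtype.ext h
    · exact absurd (h ▸ hgb) hab
    · exact absurd (h ▸ hga).symm hab
    · exfalso; rw [h] at hga; refine hab ?_
      have : a * b * a = b := by rw [hga.eq, ← mul_assoc, a2, one_mul]
      exact absurd this hcb
    · exfalso; rw [h] at hga; refine hcb ?_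
      calc c = a * (b * a) := mul_assoc a b a
        _ = b * a * a := hga.eq.symm
        _ = b := by rw [mul_assoc, a2, mul_one]
    · exfalso; rw [h] at hga; refine hab ?_
      show a * b = b * a
      calc a * b = a * b * a * a := by rw [mul_assoc (a * b), a2, mul_one]
        _ = a * (a * b * a) := hga.eq
        _ = b * a := by simp only [← mul_assoc, a2, one_mul]
  obtain ⟨e⟩ := Finite.card_eq.1 (show Nat.card (perp D x) = Nat.card (Fin 3) by
    rw [Nat.card_coe_set_eq, h3, Nat.card_fin])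
  set φ : H →* Equiv.Perm (Fin 3) :=
    e.permCongrHom.toMonoidHom.comp (MulAction.toPermHom H (perp D x)) with hφ
  have hφinj : Function.Injective φ := e.permCongrHom.injective.comp hinj
  have h2 : 2 ∣ Nat.card H := by
    have h := orderOf_dvd_natCard (⟨a, subset_closure ha⟩ : H)
    rwa [← orderOf_coe, hD.1.1 a ha.1] at h
  have h3' : 3 ∣ Nat.card H := by
    have h := orderOf_dvd_natCard (⟨a * b, mul_mem (subset_closure ha) (subset_closure hb)⟩ : H)
    haveI : Fact (Nat.Prime 3) := ⟨Nat.prime_three⟩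
    rwa [← orderOf_coe, orderOf_eq_prime (cube_of_not_commute hD.1 ha.1 hb.1 hab) fun h1 =>
      hba ((mul_eq_one_iff_eq_inv.1 h1).trans (inv_eq hD.1 hb.1)).symm] at h
  have hle : Nat.card (Equiv.Perm (Fin 3)) = 6 := by rw [Nat.card_eq_fintype_card]; rfl
  have hcard : Nat.card H = Nat.card (Equiv.Perm (Fin 3)) := by
    have h1 := Nat.card_le_card_of_injective φ hφinj
    have h6 : 6 ∣ Nat.card H := Nat.Coprime.mul_dvd_of_dvd_of_dvd (by norm_num : Nat.Coprime 2 3) h2 h3'
    have := Nat.le_of_dvd Nat.card_pos h6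
    omega
  exact ⟨MulEquiv.ofBijective φ ((Nat.bijective_iff_injective_and_card φ).2 ⟨hφinj, hcard⟩)⟩

/-- Fischer's theorem on the odd core. -/
theorem fischer_core {G : Type u} [Group G] [Finite G] (hsol : ∀ N : Subgroup G, N.Normal → Group.IsSolvable N → N = ⊥)
    (hperf : ⁅commutator G, commutator G⁆ = commutator G) {D : Set G} (hD : IsThreeTranspositionClass D) {x : G}
    (hx : x ∈ D) (h : ¬ oddCore (closure (perp D x)) ≤ center (closure (perp D x))) :
    Nonempty (G ≃* Equiv.Perm (Fin 5)) := by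
  classical
  obtain ⟨-, -, hR⟩ := rich_of_fischer hsol hperf hD
  obtain ⟨x₁, hx₁, a₁, ha₁, b₁, hb₁, hne₁⟩ := exists_wclass hR hx h
  obtain ⟨hcommon, hnc⟩ := perp_pairwise hR ⟨x₁, hx₁, a₁, ha₁, b₁, hb₁, hne₁⟩
  set k := (perp D x).ncard with hkdef
  have hk : ∀ d ∈ D, (perp D d).ncard = k := fun d hd => ncard_perp_eq hD hd hx
  -- a noncommuting pair and its common neighbours
  have hab : ¬ Commute a₁ b₁ := hb₁.2.not_commute hb₁.1 hne₁
  set μ := (perp D a₁ ∩ perp D b₁).ncard with hμdef
  have hμ : ∀ a ∈ D, ∀ b ∈ D, ¬ Commute a b → (perp D a ∩ perp D b).ncard = μ := by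
    intro a ha b hb hn
    obtain ⟨g, rfl⟩ := exists_conj hD ha₁.1 ha
    obtain ⟨f, hf, rfl⟩ := hR.nonperp_transitive ha (conj_mem hD g hb₁.1.1)
      (fun hc => hab ((conj_commute_iff g a₁ b₁).1 hc)) hb hn
    conv_lhs => rw [← conj_fix hf, ← conj_image_perp hD f (g * a₁ * g⁻¹), ← conj_image_perp hD f (g * b₁ * g⁻¹),
      ← conj_image_perp hD g a₁, ← conj_image_perp hD g b₁, ← Set.image_inter (conj_image_injective _),
      ← Set.image_inter (conj_image_injective _), Set.ncard_image_of_injective _ (conj_image_injective _),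
      Set.ncard_image_of_injective _ (conj_image_injective _)]
  obtain ⟨t₀, ht₀⟩ := hcommon a₁ ha₁.1 b₁ hb₁.1.1 hab
  obtain ⟨m, hm⟩ : ∃ m : ℕ, k = 3 ^ m := by
    obtain ⟨y, hy⟩ := hR.exists_perp hx
    refine ncard_three_pow hR hx (hnc x hx) subset_rfl hy fun u hu v hv => ?_
    rw [conj_image_perp hD, conj_fix (hu.2.2.symm.mul_left hv.2.2.symm)]
  obtain ⟨j, hj⟩ : ∃ j : ℕ, μ = 3 ^ j := by
    refine ncard_three_pow hR ha₁.1 (hnc a₁ ha₁.1) Set.inter_subset_left ht₀ fun u hu v hv => ?_
    rw [Set.image_inter (conj_image_injective _), conj_image_perp hD, conj_image_perp hD,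
      conj_fix (hu.1.2.2.symm.mul_left hv.1.2.2.symm), conj_fix (hu.2.2.2.symm.mul_left hv.2.2.2.symm)]
  have hμk : μ ≤ k := by
    rw [← hk a₁ ha₁.1]
    exact Set.ncard_le_ncard Set.inter_subset_left (Set.toFinite _)
  have hk2 : 2 ≤ k := by
    rw [← hk x₁ hx₁, ← Set.ncard_pair hne₁]
    exact Set.ncard_le_ncard (by rintro t (rfl | rfl); exacts [ha₁, hb₁.1]) (Set.toFinite _)
  have hm1 : 1 ≤ m := by
    rcases Nat.eq_zero_or_pos m with rfl | h0
    · rw [pow_zero] at hm; omega
    · exact h0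
  have hk3 : 3 ≤ k := hm ▸ le_self_pow₀ (by norm_num) (by omega)
  haveI : Fintype D := Fintype.ofFinite _
  haveI : Nonempty D := ⟨⟨x, hx⟩⟩
  have hsq := square_of_triangle_free (α := D) (fun i j => (j : G) ∈ perp D i) (fun i j h => perp_symm i.2 h)
    (fun i h => h.2.1 rfl) k μ (fun i => by
      rw [← hk i i.2, ← Set.ncard_image_of_injective _ Subtype.val_injective]
      congr 1
      ext t
      exact ⟨fun ⟨s, hs, hst⟩ => hst ▸ hs, fun ht => ⟨⟨t, ht.1⟩, ht, rfl⟩⟩)
    (fun i j hij l hil hlj => hlj.2.1 (hnc i i.2 l hil j hij hlj.2.2).symm)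
    (fun i j hne hij => by
      have hn : ¬ Commute (i : G) j := fun hc => hij ⟨j.2, fun e => hne (Subtype.ext e).symm, hc⟩
      rw [← hμ i i.2 j j.2 hn, ← Set.ncard_image_of_injective _ Subtype.val_injective]
      congr 1
      ext t
      exact ⟨fun ⟨s, hs, hst⟩ => hst ▸ ⟨hs.1, perp_symm s.2 hs.2⟩,
        fun ht => ⟨⟨t, ht.1.1⟩, ⟨ht.1, perp_symm j.2 ht.2⟩, rfl⟩⟩)
    hμk (hj ▸ Nat.one_le_pow _ _ (by norm_num)) hk3
  rw [hm, hj] at hsq
  have hjm : j ≤ m := (Nat.pow_le_pow_iff_right (by norm_num : 1 < 3)).1 (hm ▸ hj ▸ hμk)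
  rcases parameters hjm hm1 hsq with hjeq | ⟨hj0, hm'⟩
  · -- the neighbourhoods of a noncommuting pair coincide
    exfalso
    have hfull : ∀ a ∈ D, ∀ b ∈ D, ¬ Commute a b → perp D a ∩ perp D b = perp D a := fun a ha b hb hn =>
      Set.eq_of_subset_of_ncard_le Set.inter_subset_left (by rw [hk a ha, hμ a ha b hb hn, hm, hj, hjeq])
        (Set.toFinite _)
    have heq : perp D a₁ = perp D b₁ := by
      rw [← hfull a₁ ha₁.1 b₁ hb₁.1.1 hab, Set.inter_comm, hfull b₁ hb₁.1.1 a₁ ha₁.1 fun e => hab e.symm]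
    refine hne₁ (eq_of_wRel_of_primitive hR.prim hD hR.pair ha₁.1 hb₁.1.1 fun y hy => ?_)
    have := Set.ext_iff.1 heq y
    simpa [perp, hy] using this
  rw [hm'] at hm
  rw [hj0] at hj
  have H : Cfsg.Lib.ThreeTrBase.Base D := ⟨hD.1, fun g d hd => conj_mem hD g hd,
    fun d hd => perm_three hR hd (hnc d hd) (by rw [hk d hd, hm]; norm_num)⟩
  have hU : ¬ Cfsg.Lib.ThreeTrBase.Uniform D := by
    intro hU
    have hsub : perp D a₁ ⊆ perp D b₁ := fun y hy =>
      hU x₁ hx₁ a₁ ha₁ b₁ hb₁.1 y hy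
    have h1 := Set.ncard_le_ncard (Set.subset_inter subset_rfl hsub) (Set.toFinite _)
    rw [hk a₁ ha₁.1, ← hμdef, hm, hj] at h1
    norm_num at h1
  obtain ⟨e⟩ := Cfsg.Lib.ThreeTrBase.petersen H hU
  exact ⟨(topEquiv.symm.trans (MulEquiv.subgroupCongr hD.2.2.symm)).trans e⟩

end Cfsg.Lib.ThreeTr.CoreThree
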