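import Cfsg.Agent.ThreeTransposition.RankThree

/-!
Fischer's equivalence `WRel` inside the neighbourhoods: on a commuting triangle the two classes at a vertex
agree, so that if some class is nontrivial no two commuting members have a common neighbour.
-/

set_option linter.unusedSectionVars false

namespace Cfsg.Lib.ThreeTr.CoreThree

open Cfsg Subgroup Cfsg.Lib.ThreeTr

variable {G : Type*} [Group G] {D : Set G}

/-- The class of `a` among the neighbours of `x`. -/
def wclass (D : Set G) (x a : G) : Set G := {b | b ∈ perp D x ∧ WRel (perp D x) a b}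

/-- The third vertices `z` of the triangles on `a x` whose two classes at `z` differ. -/
def oddVertices (D : Set G) (a x : G) : Set G :=
  {z | z ∈ perp D a ∧ z ∈ perp D x ∧ wclass D a z ≠ wclass D x z}

theorem mem_perp_conj (hD : IsThreeTranspositionClass D) (g : G) {x y : G} :
    g * y * g⁻¹ ∈ perp D (g * x * g⁻¹) ↔ y ∈ perp D x := by
  rw [← conj_image_perp hD g x]
  exact (conj_image_injective g).mem_set_image

theorem perp_symm {x y : G} (hx : x ∈ D) (h : y ∈ perp D x) : x ∈ perp D y := ⟨hx, h.2.1.symm, h.2.2.symm⟩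

theorem wRel_conj (hD : IsThreeTranspositionClass D) (g : G) {x a b : G} (h : WRel (perp D x) a b) :
    WRel (perp D (g * x * g⁻¹)) (g * a * g⁻¹) (g * b * g⁻¹) := by
  intro y hy
  rw [← conj_image_perp hD g x] at hy
  obtain ⟨z, hz, rfl⟩ := hy
  simpa only [Ne, mul_left_inj, mul_right_inj, conj_commute_iff] using h z hz

theorem conj_image_wclass (hD : IsThreeTranspositionClass D) (g x a : G) :
    (fun y => g * y * g⁻¹) '' wclass D x a = wclass D (g * x * g⁻¹) (g * a * g⁻¹) := by
  refine Set.Subset.antisymm ?_ fun y hy => ?_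
  · rintro _ ⟨y, hy, rfl⟩
    exact ⟨(mem_perp_conj hD g).2 hy.1, wRel_conj hD g hy.2⟩
  · refine ⟨g⁻¹ * y * g, ⟨?_, ?_⟩, by group⟩
    · rw [← mem_perp_conj hD g, show g * (g⁻¹ * y * g) * g⁻¹ = y by group]; exact hy.1
    · have := wRel_conj hD g⁻¹ hy.2
      simpa only [← mul_assoc, inv_mul_cancel, one_mul, inv_inv, inv_mul_cancel_right] using this

theorem self_mem_wclass {x a : G} (ha : a ∈ perp D x) : a ∈ wclass D x a := ⟨ha, fun _ _ => Iff.rfl⟩

theorem wRel_symm {P : Set G} {a b : G} (h : WRel P a b) : WRel P b a := fun y hy => (h y hy).symm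

theorem wRel_trans {P : Set G} {a b c : G} (h : WRel P a b) (h' : WRel P b c) : WRel P a c := fun y hy =>
  (h y hy).trans (h' y hy)

theorem conj_fix {g x : G} (h : Commute g x) : g * x * g⁻¹ = x := by rw [h.eq, mul_inv_cancel_right]

theorem ncard_wclass_eq [Finite G] (hR : Rich D) {a x y : G} (ha : a ∈ D) (hx : x ∈ perp D a) (hy : y ∈ perp D a) :
    (wclass D x a).ncard = (wclass D y a).ncard := by
  obtain ⟨g, hg, rfl⟩ := hR.perp_transitive ha hx hy
  rw [← Set.ncard_image_of_injective (wclass D x a) (conj_image_injective g), conj_image_wclass hR.cls,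
    conj_fix (closure_perp_commute hg)]

/-- Noncommuting common neighbours of a pair induce the pair alike. -/
theorem wRel_of_not_commute (hD : IsThreeTranspositionClass D) {a b s u : G}
    (hsa : s ∈ perp D a) (hsb : s ∈ perp D b) (hua : u ∈ perp D a) (hub : u ∈ perp D b) (h : ¬ Commute s u)
    (hs : WRel (perp D s) a b) : WRel (perp D u) a b := by
  have := wRel_conj hD (s * u) hs
  rwa [mul_conj_eq hD.1 hsa.1 hua.1 h, conj_fix (hsa.2.2.symm.mul_left hua.2.2.symm),
    conj_fix (hsb.2.2.symm.mul_left hub.2.2.symm)] at this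

theorem good_of_mem [Finite G] (hR : Rich D) {a x y b : G} (ha : a ∈ D) (hx : x ∈ perp D a) (hy : y ∈ perp D a)
    (hxy : y ∈ perp D x) (hb : b ∈ wclass D y a) (hbx : b ∉ wclass D x a) :
    wclass D x y = wclass D a y := by
  have hD := hR.cls
  have hxy' : x ∈ perp D y := perp_symm hx.1 hxy
  have hne : a ≠ b := fun h => hbx (h ▸ self_mem_wclass (perp_symm ha hx))
  have hab : ¬ Commute a b := hb.2.not_commute hb.1 hne
  obtain ⟨hxb, hcbx⟩ := (hb.2 x hxy').1 ⟨hx.2.1, hx.2.2⟩
  have hbpx : b ∈ perp D x := ⟨hb.1.1, hxb.symm, hcbx.symm⟩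
  have hU : ¬ WRel (perp D x) a b := fun h => hbx ⟨hbpx, h⟩
  have hS : WRel (perp D y) a b := hb.2
  have hyb : y ∈ perp D b := perp_symm hy.1 hb.1
  have hxpb : x ∈ perp D b := perp_symm hx.1 hbpx
  refine Set.eq_of_subset_of_ncard_le ?_ (ncard_wclass_eq hR hy.1 (perp_symm ha hy) hxy').le (Set.toFinite _)
  rintro s ⟨hs, hys⟩
  rcases eq_or_ne y s with rfl | hne'
  · exact self_mem_wclass hy
  obtain ⟨has, hcsa⟩ := (hys a (perp_symm ha hx)).1 ⟨hy.2.1.symm, hy.2.2.symm⟩
  obtain ⟨hbs, hcsb⟩ := (hys b hbpx).1 ⟨hb.1.2.1, hb.1.2.2⟩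
  have hsa : s ∈ perp D a := ⟨hs.1, has.symm, hcsa.symm⟩
  have hsb : s ∈ perp D b := ⟨hs.1, hbs.symm, hcsb.symm⟩
  have hys' : ¬ Commute y s := hys.not_commute hs hne'
  have hSs : WRel (perp D s) a b := wRel_of_not_commute hD hy hyb hsa hsb hys' hS
  refine ⟨hsa, ?_⟩
  have hsub : perp D a ∩ perp D y ⊆ perp D a ∩ perp D s := by
    rintro t ⟨hta, hty⟩
    refine ⟨hta, hta.1, fun h => hys' (h ▸ hty.2.2), ?_⟩
    by_cases htx : Commute x t
    · by_cases hex : t = x
      · exact hex ▸ hs.2.2.symm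
      · exact ((hys t ⟨hta.1, hex, htx⟩).1 ⟨hty.2.1, hty.2.2⟩).2
    · obtain ⟨htb, hcbt⟩ := (hS t hty).1 ⟨hta.2.1, hta.2.2⟩
      have htpb : t ∈ perp D b := ⟨hta.1, htb, hcbt⟩
      by_contra hst
      exact hU (wRel_of_not_commute hD hta htpb hx hxpb (fun h => htx h.symm)
        (wRel_of_not_commute hD hsa hsb hta htpb hst hSs))
  have heq : perp D a ∩ perp D y = perp D a ∩ perp D s := by
    refine Set.eq_of_subset_of_ncard_le hsub ?_ (Set.toFinite _)
    rw [← Set.ncard_image_of_injective (perp D a ∩ perp D y) (conj_image_injective (y * s)),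
      Set.image_inter (conj_image_injective _), conj_image_perp hD, conj_image_perp hD,
      mul_conj_eq hD.1 hy.1 hs.1 hys', conj_fix (hy.2.2.symm.mul_left hsa.2.2.symm)]
  intro t ht
  have := Set.ext_iff.1 heq t
  simpa [perp, ht.1, ht.2.1, ht.2.2] using this

/-- A triangle is bad at one vertex at most. -/
theorem good_of_bad [Finite G] (hR : Rich D) {a x y : G} (ha : a ∈ D) (hx : x ∈ perp D a) (hy : y ∈ perp D a)
    (hxy : y ∈ perp D x) (h : wclass D x a ≠ wclass D y a) : wclass D x y = wclass D a y := by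
  obtain ⟨b, hb, hbx⟩ : ∃ b ∈ wclass D y a, b ∉ wclass D x a := by
    by_contra hcon
    push Not at hcon
    exact h (Set.eq_of_subset_of_ncard_le hcon (ncard_wclass_eq hR ha hx hy).le (Set.toFinite _)).symm
  exact good_of_mem hR ha hx hy hxy hb hbx

theorem ncard_oddVertices_eq [Finite G] (hR : Rich D) {a x x' y : G} (ha : a ∈ D) (hx : x ∈ perp D a)
    (hx' : x' ∈ D) (hy : y ∈ perp D x') : (oddVertices D a x).ncard = (oddVertices D x' y).ncard := by
  have hD := hR.cls
  obtain ⟨g, rfl⟩ := exists_conj hD ha hx'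
  obtain ⟨h, hh, rfl⟩ := hR.perp_transitive hx' ((mem_perp_conj hD g).2 hx) hy
  have e : h * (g * x * g⁻¹) * h⁻¹ = (h * g) * x * (h * g)⁻¹ := by group
  have e' : g * a * g⁻¹ = (h * g) * a * (h * g)⁻¹ := by
    conv_lhs => rw [← conj_fix (closure_perp_commute hh)]
    group
  rw [e, e', ← Set.ncard_image_of_injective (oddVertices D a x) (conj_image_injective (h * g))]
  congr 1
  have hinj : Function.Injective (Set.image fun u => (h * g) * u * (h * g)⁻¹) :=
    Set.image_injective.2 (conj_image_injective _)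
  refine Set.Subset.antisymm ?_ fun z hz => ?_
  · rintro _ ⟨z, hz, rfl⟩
    refine ⟨(mem_perp_conj hD _).2 hz.1, (mem_perp_conj hD _).2 hz.2.1, fun he => hz.2.2 (hinj ?_)⟩
    rw [conj_image_wclass hD, conj_image_wclass hD]; exact he
  · refine ⟨(h * g)⁻¹ * z * (h * g), ?_, by group⟩
    have hz' : (h * g) * ((h * g)⁻¹ * z * (h * g)) * (h * g)⁻¹ = z := by group
    rw [← hz'] at hz
    refine ⟨(mem_perp_conj hD _).1 hz.1, (mem_perp_conj hD _).1 hz.2.1, fun he => hz.2.2 ?_⟩
    rw [← conj_image_wclass hD, ← conj_image_wclass hD, he]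

/-- The two classes at a vertex of a commuting triangle agree. -/
theorem wclass_eq_of_triangle [Finite G] (hR : Rich D) {a x y : G} (ha : a ∈ D) (hx : x ∈ perp D a)
    (hy : y ∈ perp D a) (hxy : y ∈ perp D x) : wclass D x a = wclass D y a := by
  by_contra hbad
  have hD := hR.cls
  have hsub : insert a (oddVertices D a x) ⊆ oddVertices D x y := by
    rintro z (rfl | ⟨hza, hzx, hz⟩)
    · exact ⟨perp_symm ha hx, perp_symm ha hy, hbad⟩
    have hzy : z ≠ y := fun h => hz (h ▸ (good_of_bad hR ha hx hy hxy hbad).symm)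
    have hc : Commute y z := by
      by_contra hc
      have hfix1 : Commute (y * z) a := hy.2.2.symm.mul_left hza.2.2.symm
      have hfix2 : Commute (y * z) x := hxy.2.2.symm.mul_left hzx.2.2.symm
      refine hz (good_of_bad hR ha hx hza hzx fun he => hbad ?_).symm
      have hinj : Function.Injective (Set.image fun u => (y * z) * u * (y * z)⁻¹) :=
        Set.image_injective.2 (conj_image_injective _)
      refine hinj ?_
      rw [conj_image_wclass hD, conj_image_wclass hD, conj_fix hfix1, conj_fix hfix2,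
        mul_conj_eq hD.1 hy.1 hza.1 hc]
      exact he
    have hzpy : z ∈ perp D y := ⟨hza.1, hzy, hc⟩
    refine ⟨hzx, hzpy, fun he => hbad ?_⟩
    have h1 : wclass D z a = wclass D x a := by
      have := good_of_bad hR hza.1 (perp_symm hx.1 hzx) (perp_symm ha hza) (perp_symm ha hx) hz.symm
      exact this.symm
    have h2 : wclass D z a = wclass D y a := by
      have := good_of_bad hR hza.1 (perp_symm hy.1 hzpy) (perp_symm ha hza) (perp_symm ha hy)
        (fun h => hz (h.symm.trans he.symm))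
      exact this.symm
    exact h1.symm.trans h2
  have hnot : a ∉ oddVertices D a x := fun h => h.1.2.1 rfl
  have h1 := Set.ncard_le_ncard hsub (Set.toFinite _)
  rw [Set.ncard_insert_of_notMem hnot (Set.toFinite _), ncard_oddVertices_eq hR ha hx hx.1 hxy] at h1
  omega

/-- With one nontrivial class, every noncommuting pair has a common neighbour and commuting members have none. -/
theorem perp_pairwise [Finite G] (hR : Rich D)
    (hW : ∃ x ∈ D, ∃ a ∈ perp D x, ∃ b ∈ wclass D x a, a ≠ b) :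
    (∀ a ∈ D, ∀ b ∈ D, ¬ Commute a b → ∃ x, x ∈ perp D a ∧ x ∈ perp D b) ∧
      ∀ x ∈ D, ∀ a ∈ perp D x, ∀ b ∈ perp D x, Commute a b → a = b := by
  have hD := hR.cls
  obtain ⟨x₀, hx₀, a₀, ha₀, b₀, hb₀, hne₀⟩ := hW
  have hnc₀ : ¬ Commute a₀ b₀ := hb₀.2.not_commute hb₀.1 hne₀
  have hex : ∀ a ∈ D, ∀ b ∈ D, ¬ Commute a b →
      ∃ x, x ∈ perp D a ∧ x ∈ perp D b ∧ WRel (perp D x) a b := by
    intro a ha b hb hab
    obtain ⟨g, rfl⟩ := exists_conj hD ha₀.1 ha
    obtain ⟨h, hh, rfl⟩ := hR.nonperp_transitive ha (conj_mem hD g hb₀.1.1)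
      (fun hc => hnc₀ ((conj_commute_iff g a₀ b₀).1 hc)) hb hab
    refine ⟨(h * g) * x₀ * (h * g)⁻¹, ?_, ?_, ?_⟩
    · rw [← conj_fix hh, show h * (g * a₀ * g⁻¹) * h⁻¹ = (h * g) * a₀ * (h * g)⁻¹ by group]
      exact (mem_perp_conj hD _).2 (perp_symm hx₀ ha₀)
    · rw [show h * (g * b₀ * g⁻¹) * h⁻¹ = (h * g) * b₀ * (h * g)⁻¹ by group]
      exact (mem_perp_conj hD _).2 (perp_symm hx₀ hb₀.1)
    · rw [← conj_fix hh, show h * (g * a₀ * g⁻¹) * h⁻¹ = (h * g) * a₀ * (h * g)⁻¹ by group,
        show h * (g * b₀ * g⁻¹) * h⁻¹ = (h * g) * b₀ * (h * g)⁻¹ by group]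
      exact wRel_conj hD _ hb₀.2
  refine ⟨fun a ha b hb hab => ?_, ?_⟩
  · obtain ⟨x, h1, h2, -⟩ := hex a ha b hb hab
    exact ⟨x, h1, h2⟩
  intro x hx a ha b hb hc
  have hall : ∀ u ∈ perp D x, ∀ v ∈ perp D x, ¬ Commute u v → WRel (perp D x) u v := by
    intro u hu v hv huv
    obtain ⟨y, hyu, hyv, hy⟩ := hex u hu.1 v hv.1 huv
    by_cases hxy : Commute y x
    · by_cases he : y = x
      · exact he ▸ hy
      have := wclass_eq_of_triangle hR hu.1 (perp_symm hx hu) hyu ⟨hyu.1, he, hxy.symm⟩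
      have hv' : v ∈ wclass D y u := ⟨perp_symm hv.1 hyv, hy⟩
      rw [← this] at hv'
      exact hv'.2
    · exact wRel_of_not_commute hD hyu hyv (perp_symm hx hu) (perp_symm hx hv) hxy hy
  have hW : WRel (perp D x) a b := by
    have hchain := hR.perp_connected hx ha hb
    clear hb hc
    induction hchain with
    | refl => exact fun _ _ => Iff.rfl
    | @tail u v _ huv ih => exact wRel_trans ih (hall u huv.1 v huv.2.1 huv.2.2)
  by_contra hne
  exact hW.not_commute hb hne hc

end Cfsg.Lib.ThreeTr.CoreThree
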